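import Groth.Agent.H23.PicMul
import Groth.Prelude.Def_PicRel2
import Groth.Prelude.Def_AbDual
import Mathlib.AlgebraicGeometry.Sites.Fpqc
import Mathlib.CategoryTheory.Monoidal.Cartesian.Grp
import Mathlib.CategoryTheory.Monoidal.Cartesian.Over

/-!
# The group structure on a scheme representing the relative Picard functor for the fppf topology

The file follows `Groth.Agent.PicTangent.GroupLaw`, with fppf coverings in place of étale ones.
-/

set_option autoImplicit false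
set_option linter.style.haveILetI false
set_option linter.unusedSectionVars false
set_option backward.isDefEq.respectTransparency false
set_option backward.isDefEq.respectTransparency.types false

universe u

open CategoryTheory CategoryTheory.Limits AlgebraicGeometry MonoidalCategory CartesianMonoidalCategory Opposite

noncomputable section

namespace Groth.Agent.PicGroupFppf

open Groth.Agent Groth.Agent.H23

attribute [local instance] PicMul.clMonoid

variable {X S : Scheme.{u}} (f : X ⟶ S) {T W : Over S}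

/-- A jointly surjective family of flat morphisms locally of finite presentation. -/
structure IsCov {ι : Type u} {V : ι → Over S} (g : ∀ i, V i ⟶ T) : Prop where
  flat : ∀ i, Flat (g i).left
  lfp : ∀ i, LocallyOfFinitePresentation (g i).left
  surj : ∀ x : T.left, ∃ i y, (g i).left y = x

theorem isCov_covers {R : Presieve T.left} (hR : R ∈ Scheme.fppfPrecoverage T.left) :
    ∃ (ι : Type u) (U : ι → Scheme.{u}) (u : ∀ i, U i ⟶ T.left),
      IsCov (fun i => AbDual.ovrHom T (u i)) ∧ ∀ i, R (u i) := by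
  obtain ⟨ι, U, u, rfl⟩ := Presieve.exists_eq_ofArrows R
  obtain ⟨h1, h2⟩ := (Scheme.ofArrows_mem_precoverage_iff _).1 hR
  choose i y hy using h1
  exact ⟨T.left, fun x => U (i x), fun x => u (i x),
    ⟨fun x => (h2 (i x)).1, fun x => (h2 (i x)).2, fun x => ⟨x, y x, hy x⟩⟩, fun x => Presieve.ofArrows.mk (i x)⟩

theorem IsCov.sheafFor {ι : Type u} {V : ι → Over S} {g : ∀ i, V i ⟶ T} (hg : IsCov g) (Z : Scheme.{u}) :
    Presieve.IsSheafFor (yoneda.obj Z) (Presieve.ofArrows (fun i => (V i).left) fun i => (g i).left) := by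
  rw [Presieve.isSheafFor_iff_generate]
  refine (GrothendieckTopology.Subcanonical.isSheaf_of_isRepresentable (J := Scheme.fppfTopology) (yoneda.obj Z)) _
    (Precoverage.generate_mem_toGrothendieck ?_)
  rw [Scheme.fppfPrecoverage, Scheme.ofArrows_mem_precoverage_iff]
  refine ⟨fun x => ?_, fun i => ?_⟩
  · obtain ⟨i, y, hy⟩ := hg.surj x
    exact ⟨i, y, hy⟩
  · exact ⟨hg.flat i, hg.lfp i⟩

theorem IsCov.hom_ext {ι : Type u} {V : ι → Over S} {g : ∀ i, V i ⟶ T} (hg : IsCov g) {a b : T ⟶ W}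
    (h : ∀ i, g i ≫ a = g i ≫ b) : a = b := by
  refine Over.OverMorphism.ext ((hg.sheafFor W.left).isSeparatedFor.ext ?_)
  rintro Z _ ⟨i⟩
  exact congrArg CommaMorphism.left (h i)

theorem IsCov.exists_glue {ι : Type u} {V : ι → Over S} {g : ∀ i, V i ⟶ T} (hg : IsCov g) (x : ∀ i, V i ⟶ W)
    (hx : ∀ (i j : ι) (Z : Over S) (p : Z ⟶ V i) (q : Z ⟶ V j), p ≫ g i = q ≫ g j → p ≫ x i = q ≫ x j) :
    ∃ h : T ⟶ W, ∀ i, g i ≫ h = x i := by
  obtain ⟨t, ht, -⟩ := (Presieve.isSheafFor_arrows_iff _ _).1 (hg.sheafFor W.left) (fun i => (x i).left) (by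
    intro i j Z gi gj hij
    let Z' : Over S := Over.mk (gi ≫ (V i).hom)
    let p : Z' ⟶ V i := Over.homMk gi rfl
    let q : Z' ⟶ V j := Over.homMk gj (by
      show gj ≫ (V j).hom = gi ≫ (V i).hom
      rw [← Over.w (g i), ← Over.w (g j), ← Category.assoc, ← hij, Category.assoc])
    exact congrArg CommaMorphism.left (hx i j Z' p q (Over.OverMorphism.ext hij)))
  have hw : t ≫ W.hom = T.hom := (hg.sheafFor S).isSeparatedFor.ext (by
    rintro Z _ ⟨i⟩
    show (g i).left ≫ t ≫ W.hom = (g i).left ≫ T.hom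
    have hti : (g i).left ≫ t = (x i).left := ht i
    rw [← Category.assoc, hti, Over.w (x i), Over.w (g i)])
  exact ⟨Over.homMk t hw, fun i => Over.OverMorphism.ext (ht i)⟩

theorem IsCov.trans {ι : Type u} {V : ι → Over S} {g : ∀ i, V i ⟶ T} (hg : IsCov g) {κ : ι → Type u}
    {V' : ∀ i, κ i → Over S} {g' : ∀ i j, V' i j ⟶ V i} (hg' : ∀ i, IsCov (g' i)) :
    IsCov fun p : Σ i, κ i => g' p.1 p.2 ≫ g p.1 := by
  refine ⟨fun p => ?_, fun p => ?_, fun x => ?_⟩
  · haveI := hg.flat p.1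
    haveI := (hg' p.1).flat p.2
    exact inferInstanceAs (Flat ((g' p.1 p.2).left ≫ (g p.1).left))
  · haveI := hg.lfp p.1
    haveI := (hg' p.1).lfp p.2
    exact inferInstanceAs (LocallyOfFinitePresentation ((g' p.1 p.2).left ≫ (g p.1).left))
  · obtain ⟨i, y, rfl⟩ := hg.surj x
    obtain ⟨j, z, rfl⟩ := (hg' i).surj y
    exact ⟨⟨i, j⟩, z, by rw [Over.comp_left, Scheme.Hom.comp_apply]⟩

theorem IsCov.pull {ι : Type u} {V : ι → Over S} {g : ∀ i, V i ⟶ T} (hg : IsCov g) {T' : Over S} (s : T' ⟶ T) :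
    ∃ (V' : ι → Over S) (g' : ∀ i, V' i ⟶ T') (q : ∀ i, V' i ⟶ V i), IsCov g' ∧ ∀ i, g' i ≫ s = q i ≫ g i := by
  refine ⟨fun i => Over.mk (pullback.fst (g i).left s.left ≫ (V i).hom),
    fun i => Over.homMk (pullback.snd (g i).left s.left) ?_, fun i => Over.homMk (pullback.fst (g i).left s.left) rfl,
    ⟨fun i => ?_, fun i => ?_, fun x => ?_⟩, fun i => Over.OverMorphism.ext pullback.condition.symm⟩
  · show pullback.snd (g i).left s.left ≫ T'.hom = pullback.fst (g i).left s.left ≫ (V i).hom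
    rw [← Over.w s, ← Over.w (g i), ← Category.assoc, ← pullback.condition, Category.assoc]
  · exact MorphismProperty.pullback_snd (P := @Flat) (g i).left s.left (hg.flat i)
  · exact MorphismProperty.pullback_snd (P := @LocallyOfFinitePresentation) (g i).left s.left (hg.lfp i)
  · obtain ⟨i, y, hy⟩ := hg.surj (s.left x)
    obtain ⟨z, -, hz⟩ := Scheme.Pullback.exists_preimage_pullback y x hy
    exact ⟨i, z, hz⟩

/-- A local determination glues to a morphism. -/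
theorem exists_glue_of (Q : ∀ (T' : Over S), (T' ⟶ T) → (T' ⟶ W) → Prop)
    (hnat : ∀ (T' T'' : Over S) (u : T'' ⟶ T') (s : T' ⟶ T) (x : T' ⟶ W), Q T' s x → Q T'' (u ≫ s) (u ≫ x))
    (huniq : ∀ (T' : Over S) (s : T' ⟶ T) (x y : T' ⟶ W), Q T' s x → Q T' s y → x = y)
    {ι : Type u} {V : ι → Over S} {g : ∀ i, V i ⟶ T} (hg : IsCov g) (x : ∀ i, V i ⟶ W) (hx : ∀ i, Q _ (g i) (x i)) :
    ∃ h : T ⟶ W, ∀ (T' : Over S) (s : T' ⟶ T) (y : T' ⟶ W), Q T' s y → s ≫ h = y := by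
  obtain ⟨h, hh⟩ := hg.exists_glue x fun i j Z p q e =>
    huniq Z _ _ _ (hnat _ _ p _ _ (hx i)) (e ▸ hnat _ _ q _ _ (hx j))
  refine ⟨h, fun T' s y hy => ?_⟩
  obtain ⟨V', g', q, hg', hq⟩ := hg.pull s
  refine hg'.hom_ext fun i => ?_
  rw [← Category.assoc, hq, Category.assoc, hh]
  exact huniq _ _ _ _ (hnat _ _ (q i) _ _ (hx i)) (hq i ▸ hnat _ _ (g' i) _ _ hy)

variable {f} {P : Over S} {φ : ∀ T : Over S, PicF.Cl (PicF.XT f T) → (T ⟶ P)} (hP : AbDual.IsRelPicK Scheme.fppfPrecoverage f P φ)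

/-- A class lifting a point. -/
abbrev Lifts {T : Over S} (φ : ∀ T : Over S, PicF.Cl (PicF.XT f T) → (T ⟶ P)) (a : T ⟶ P)
    (c : PicF.Cl (PicF.XT f T)) : Prop := PicF.IsInvertibleCl c ∧ φ T c = a

include hP in
theorem lifts_pull {T T' : Over S} (u : T' ⟶ T) {a : T ⟶ P} {c : PicF.Cl (PicF.XT f T)} (h : Lifts φ a c) :
    Lifts φ (u ≫ a) (PicF.pullCl (PicF.XTmap f u) c) :=
  ⟨PicLoc.isInvertibleCl_pullCl _ h.1, by rw [hP.natural _ _ u c h.1, h.2]⟩

include hP in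
/-- Points may be lifted to classes locally. -/
theorem hom_ext_lift (a : T ⟶ P) {p q : T ⟶ W}
    (h : ∀ (T' : Over S) (s : T' ⟶ T) (c : PicF.Cl (PicF.XT f T')), Lifts φ (s ≫ a) c → s ≫ p = s ≫ q) : p = q := by
  obtain ⟨R, hR, hRu⟩ := hP.locallySurjective T a
  obtain ⟨ι, U, u, hu, hmem⟩ := isCov_covers hR
  refine hu.hom_ext fun i => ?_
  obtain ⟨c, hc1, hc2⟩ := hRu (u i) (hmem i)
  exact h _ _ c ⟨hc1, hc2⟩

include hP in
theorem φ_mul_left {c c' d : PicF.Cl (PicF.XT f T)} (hc : PicF.IsInvertibleCl c) (hc' : PicF.IsInvertibleCl c')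
    (hd : PicF.IsInvertibleCl d) (h : φ T c = φ T c') : φ T (c * d) = φ T (c' * d) := by
  obtain ⟨R, hR, hRu⟩ := hP.locallyInjective T c c' hc hc' h
  obtain ⟨ι, U, u, hu, hmem⟩ := isCov_covers hR
  have hi := fun i => hRu (u i) (hmem i)
  refine hu.hom_ext fun i => ?_
  rw [← hP.natural _ _ _ _ (PicMul.isInvertibleCl_mul hc hd), ← hP.natural _ _ _ _ (PicMul.isInvertibleCl_mul hc' hd),
    PicMul.pullCl_mul, PicMul.pullCl_mul, hi i]

include hP in
theorem φ_mul {c c' d d' : PicF.Cl (PicF.XT f T)} {a b : T ⟶ P} (hc : Lifts φ a c) (hc' : Lifts φ a c')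
    (hd : Lifts φ b d) (hd' : Lifts φ b d') : φ T (c * d) = φ T (c' * d') := by
  rw [φ_mul_left hP hc.1 hc'.1 hd.1 (hc.2.trans hc'.2.symm), mul_comm c' d,
    φ_mul_left hP hd.1 hd'.1 hc'.1 (hd.2.trans hd'.2.symm), mul_comm d' c']

theorem exists_inverse {c : PicF.Cl (PicF.XT f T)} (hc : PicF.IsInvertibleCl c) :
    ∃ d, PicF.IsInvertibleCl d ∧ c * d = 1 := by
  obtain ⟨b, hb⟩ := PicMul.exists_inv (⟨c, hc⟩ : PicLoc.PicSet _)
  exact ⟨b.1, b.2, by rw [mul_comm]; exact hb⟩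

theorem isInvertibleCl_one : PicF.IsInvertibleCl (1 : PicF.Cl (PicF.XT f T)) :=
  ⟨_, rfl, PicLoc.isInvertible_structureModule _⟩

include hP in
theorem φ_inv {c c' d d' : PicF.Cl (PicF.XT f T)} {a : T ⟶ P} (hc : Lifts φ a c) (hc' : Lifts φ a c')
    (hd : PicF.IsInvertibleCl d) (hd' : PicF.IsInvertibleCl d') (h : c * d = 1) (h' : c' * d' = 1) :
    φ T d = φ T d' := by
  calc φ T d = φ T (c' * (d' * d)) := by rw [← mul_assoc, h', one_mul]
    _ = φ T (c * (d' * d)) :=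
      φ_mul_left hP hc'.1 hc.1 (PicMul.isInvertibleCl_mul hd' hd) (hc'.2.trans hc.2.symm)
    _ = φ T d' := by rw [mul_left_comm, h, mul_one]

include hP in
theorem exists_mul (a b : T ⟶ P) : ∃ m : T ⟶ P, ∀ (T' : Over S) (s : T' ⟶ T) (c d : PicF.Cl (PicF.XT f T')),
    Lifts φ (s ≫ a) c → Lifts φ (s ≫ b) d → s ≫ m = φ T' (c * d) := by
  obtain ⟨R, hR, hRu⟩ := hP.locallySurjective T a
  obtain ⟨ι, U, u, hu, hmem⟩ := isCov_covers hR
  choose c hc1 hc2 using fun i => hRu (u i) (hmem i)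
  choose R' hR' hRu' using fun i => hP.locallySurjective (AbDual.ovr T (u i)) (AbDual.ovrHom T (u i) ≫ b)
  choose κ V v hv hmem' using fun i => isCov_covers (hR' i)
  choose d hd1 hd2 using fun i j => hRu' i (v i j) (hmem' i j)
  obtain ⟨m, hm⟩ := exists_glue_of (T := T)
    (fun T' s x => ∃ c d, Lifts φ (s ≫ a) c ∧ Lifts φ (s ≫ b) d ∧ φ T' (c * d) = x)
    (fun T' T'' u s x ⟨c, d, h1, h2, h3⟩ =>
      ⟨PicF.pullCl (PicF.XTmap f u) c, PicF.pullCl (PicF.XTmap f u) d, by rw [Category.assoc]; exact lifts_pull hP u h1,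
        by rw [Category.assoc]; exact lifts_pull hP u h2,
        by rw [← PicMul.pullCl_mul, hP.natural _ _ _ _ (PicMul.isInvertibleCl_mul h1.1 h2.1), h3]⟩)
    (fun T' s x y ⟨c, d, h1, h2, h3⟩ ⟨c', d', h1', h2', h3'⟩ => h3 ▸ h3' ▸ φ_mul hP h1 h1' h2 h2')
    (hu.trans hv)
    (fun p => φ _ (PicF.pullCl (PicF.XTmap f (AbDual.ovrHom _ (v p.1 p.2))) (c p.1) * d p.1 p.2))
    (fun p => ⟨_, _, by rw [Category.assoc]; exact lifts_pull hP _ ⟨hc1 p.1, hc2 p.1⟩,
      ⟨hd1 p.1 p.2, (hd2 p.1 p.2).trans (Category.assoc _ _ _).symm⟩, rfl⟩)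
  exact ⟨m, fun T' s c d h1 h2 => hm T' s _ ⟨c, d, h1, h2, rfl⟩⟩

include hP in
theorem exists_inv' (a : T ⟶ P) : ∃ m : T ⟶ P, ∀ (T' : Over S) (s : T' ⟶ T) (c d : PicF.Cl (PicF.XT f T')),
    Lifts φ (s ≫ a) c → PicF.IsInvertibleCl d → c * d = 1 → s ≫ m = φ T' d := by
  obtain ⟨R, hR, hRu⟩ := hP.locallySurjective T a
  obtain ⟨ι, U, u, hu, hmem⟩ := isCov_covers hR
  choose c hc1 hc2 using fun i => hRu (u i) (hmem i)
  choose d hd1 hd2 using fun i => exists_inverse (hc1 i)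
  obtain ⟨m, hm⟩ := exists_glue_of (T := T)
    (fun T' s x => ∃ c d, Lifts φ (s ≫ a) c ∧ PicF.IsInvertibleCl d ∧ c * d = 1 ∧ φ T' d = x)
    (fun T' T'' u s x ⟨c, d, h1, h2, h3, h4⟩ =>
      ⟨PicF.pullCl (PicF.XTmap f u) c, PicF.pullCl (PicF.XTmap f u) d, by rw [Category.assoc]; exact lifts_pull hP u h1,
        PicLoc.isInvertibleCl_pullCl _ h2, by rw [← PicMul.pullCl_mul, h3, PicMul.pullCl_one],
        by rw [hP.natural _ _ _ _ h2, h4]⟩)
    (fun T' s x y ⟨c, d, h1, h2, h3, h4⟩ ⟨c', d', h1', h2', h3', h4'⟩ => h4 ▸ h4' ▸ φ_inv hP h1 h1' h2 h2' h3 h3')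
    hu (fun i => φ _ (d i)) (fun i => ⟨c i, d i, ⟨hc1 i, hc2 i⟩, hd1 i, hd2 i, rfl⟩)
  exact ⟨m, fun T' s c d h1 h2 h3 => hm T' s _ ⟨c, d, h1, h2, h3, rfl⟩⟩

/-- The product of two points. -/
def mul (a b : T ⟶ P) : T ⟶ P := (exists_mul hP a b).choose

/-- The inverse of a point. -/
def inv (a : T ⟶ P) : T ⟶ P := (exists_inv' hP a).choose

theorem mul_spec (a b : T ⟶ P) {T' : Over S} (s : T' ⟶ T) {c d : PicF.Cl (PicF.XT f T')}
    (hc : Lifts φ (s ≫ a) c) (hd : Lifts φ (s ≫ b) d) : s ≫ mul hP a b = φ T' (c * d) :=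
  (exists_mul hP a b).choose_spec T' s c d hc hd

theorem mul_eq (a b : T ⟶ P) {c d : PicF.Cl (PicF.XT f T)} (hc : Lifts φ a c) (hd : Lifts φ b d) :
    mul hP a b = φ T (c * d) := by
  have h := mul_spec hP a b (𝟙 T) (c := c) (d := d) (by rwa [Category.id_comp]) (by rwa [Category.id_comp])
  rwa [Category.id_comp] at h

theorem comp_mul {T' : Over S} (u : T' ⟶ T) (a b : T ⟶ P) : u ≫ mul hP a b = mul hP (u ≫ a) (u ≫ b) := by
  refine hom_ext_lift hP (u ≫ a) fun T₁ s c hc => ?_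
  refine hom_ext_lift hP ((s ≫ u) ≫ b) fun T₂ s' d hd => ?_
  have hc' : Lifts φ ((s' ≫ s) ≫ u ≫ a) (PicF.pullCl (PicF.XTmap f s') c) := by
    rw [Category.assoc]; exact lifts_pull hP s' hc
  have hd' : Lifts φ ((s' ≫ s) ≫ u ≫ b) d := by simpa only [Category.assoc] using hd
  rw [← Category.assoc s', ← Category.assoc s', mul_spec hP _ _ (s' ≫ s) hc' hd', ← Category.assoc (s' ≫ s),
    mul_spec hP a b ((s' ≫ s) ≫ u) (by rwa [Category.assoc]) (by rwa [Category.assoc])]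

theorem mul_comm' (a b : T ⟶ P) : mul hP a b = mul hP b a := by
  refine hom_ext_lift hP a fun T₁ s c hc => ?_
  rw [comp_mul, comp_mul]
  refine hom_ext_lift hP (s ≫ b) fun T₂ s' d hd => ?_
  rw [comp_mul, comp_mul, mul_eq hP _ _ (lifts_pull hP s' hc) hd, mul_eq hP _ _ hd (lifts_pull hP s' hc), mul_comm]

theorem mul_assoc' (a b e : T ⟶ P) : mul hP (mul hP a b) e = mul hP a (mul hP b e) := by
  refine hom_ext_lift hP a fun T₁ s x hx => ?_
  simp only [comp_mul]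
  refine hom_ext_lift hP (s ≫ b) fun T₂ s' y hy => ?_
  simp only [comp_mul]
  refine hom_ext_lift hP (s' ≫ s ≫ e) fun T₃ s'' z hz => ?_
  simp only [comp_mul]
  have hx' := lifts_pull hP s'' (lifts_pull hP s' hx)
  have hy' := lifts_pull hP s'' hy
  rw [mul_eq hP _ _ hx' hy', mul_eq hP _ _ hy' hz,
    mul_eq hP _ _ ⟨PicMul.isInvertibleCl_mul hx'.1 hy'.1, rfl⟩ hz,
    mul_eq hP _ _ hx' ⟨PicMul.isInvertibleCl_mul hy'.1 hz.1, rfl⟩, mul_assoc]

include hP in
theorem comp_one {T' : Over S} (u : T' ⟶ T) : u ≫ φ T 1 = φ T' 1 := by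
  rw [← hP.natural _ _ u _ isInvertibleCl_one, PicMul.pullCl_one]

theorem one_mul' (a : T ⟶ P) : mul hP (φ T 1) a = a := by
  refine hom_ext_lift hP a fun T₁ s c hc => ?_
  rw [comp_mul, comp_one hP, mul_eq hP _ _ ⟨isInvertibleCl_one, rfl⟩ hc, one_mul, hc.2]

theorem inv_mul' (a : T ⟶ P) : mul hP (inv hP a) a = φ T 1 := by
  refine hom_ext_lift hP a fun T₁ s c hc => ?_
  obtain ⟨d, hd, hcd⟩ := exists_inverse hc.1
  have hi : Lifts φ (s ≫ inv hP a) d := ⟨hd, ((exists_inv' hP a).choose_spec T₁ s c d hc hd hcd).symm⟩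
  rw [mul_spec hP _ _ s hi hc, comp_one hP, mul_comm, hcd]

/-- The group of points. -/
@[instance_reducible]
def group (T : Over S) : Group (T ⟶ P) where
  mul := mul hP
  one := φ T 1
  inv := inv hP
  mul_assoc := mul_assoc' hP
  one_mul := one_mul' hP
  mul_one a := (mul_comm' hP a _).trans (one_mul' hP a)
  inv_mul_cancel := inv_mul' hP

/-- The group valued functor of points. -/
def functor : (Over S)ᵒᵖ ⥤ GrpCat.{u} where
  obj T := @GrpCat.of (T.unop ⟶ P) (group hP T.unop)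
  map {T T'} u :=
    letI := group hP T.unop
    letI := group hP T'.unop
    GrpCat.ofHom (MonoidHom.mk' (fun a : T.unop ⟶ P => u.unop ≫ a) fun a b => comp_mul hP u.unop a b)
  map_id T := by
    apply ConcreteCategory.hom_ext
    intro a
    show (𝟙 T.unop) ≫ (show T.unop ⟶ P from a) = _
    exact Category.id_comp _
  map_comp {T₁ T₂ T₃} u v := by
    apply ConcreteCategory.hom_ext
    intro a
    show (v.unop ≫ u.unop) ≫ (show T₁.unop ⟶ P from a) = v.unop ≫ u.unop ≫ (show T₁.unop ⟶ P from a)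
    exact Category.assoc _ _ _

/-- The scheme represents its group valued functor of points. -/
def repr : (functor hP ⋙ forget GrpCat).RepresentableBy P where
  homEquiv := Equiv.refl _
  homEquiv_comp _ _ := rfl

/-- The group structure. -/
@[instance_reducible]
def grpObj : GrpObj P := GrpObj.ofRepresentableBy P (functor hP) (repr hP)

open scoped MonObj in
theorem one_eq :
    letI := grpObj hP
    η[P] = φ (Over.mk (𝟙 S)) (PicF.cl (Coh.structureModule _)) := rfl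

end Groth.Agent.PicGroupFppf
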